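import Groth.Agent.Lib.ProjKoszul.Surj
import Groth.Agent.Lib.Modules.ProjFormula
import Groth.Agent.Lib.Cyc.PP.Push
import Groth.Agent.Lib.Curves.RelSurj
import Groth.Agent.Lib.Curves.NormalGen
import Groth.Agent.Lib.UnifReg.OnX

/-!
# Multiplication of sections by high powers of a globally generated invertible module
-/

set_option autoImplicit false
set_option linter.style.haveILetI false
universe u

open CategoryTheory CategoryTheory.Limits AlgebraicGeometry TopologicalSpace Opposite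

noncomputable section

namespace Groth.Agent.Lib.GGMult90.Main

open Groth.Agent.Lib Groth.Agent.Lib.ProjKoszul Groth.Agent.Lib.ProjCoh.Coherent
open Groth.Agent.Lib.TensorMod.Basic (tmap comm tensorIso)
open Groth.Agent.Lib.TensorMod.Pullback (pb pf unitSec)
open Groth.Agent.Lib.Modules.TensorSec

theorem comm_tens {X : Scheme.{u}} (M N : X.Modules) {U : X.Opens} (m : Γ(M, U)) (n : Γ(N, U)) :
    (comm M N).hom.app U (tens m n) = tens n m := by
  have h : TensorMod.Free.pairM ((comm M N).hom ≫ 𝟙 _) m n =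
      TensorMod.Free.pairM (𝟙 (CohB1.tensorMod N M)) n m :=
    congrArg (fun t => TensorMod.Whisker.pair (M := (TensorMod.Basic.fgt X).obj M)
        (P := (TensorMod.Basic.fgt X).obj N) (X := Opposite.op U) t m n)
      ((TensorMod.Basic.adj X).homEquiv_naturality_left
        (BraidedCategory.braiding ((TensorMod.Basic.fgt X).obj M) ((TensorMod.Basic.fgt X).obj N)).hom (𝟙 _))
  rw [Category.comp_id] at h
  rw [app_tens, h]
  rfl

/-- Spanning by products passes through isomorphisms of both factors. -/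
theorem mem_prods_iso {X : Scheme.{u}} {M M' N N' : X.Modules} (e : M ≅ M') (e' : N ≅ N')
    (h : ∀ z : Γ(CohB1.tensorMod M N, ⊤), z ∈ Surj.prods M N)
    (z : Γ(CohB1.tensorMod M' N', ⊤)) : z ∈ Surj.prods M' N' := by
  rw [show z = (tmap e.hom e'.hom).app ⊤ ((tmap e.inv e'.inv).app ⊤ z) from
    (congrArg (fun φ => Scheme.Modules.Hom.app φ ⊤ z) (tensorIso e e').inv_hom_id).symm]
  refine AddSubgroup.closure_induction
    (p := fun w _ => (tmap e.hom e'.hom).app ⊤ w ∈ Surj.prods M' N') ?_ ?_ ?_ ?_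
    (h ((tmap e.inv e'.inv).app ⊤ z))
  · rintro _ ⟨⟨a, b⟩, rfl⟩
    rw [tmap_tens]
    exact Surj.tens_mem_prods _ _
  · rw [map_zero]; exact AddSubgroup.zero_mem _
  · intro a b _ _ ha hb
    rw [map_add]; exact AddSubgroup.add_mem _ ha hb
  · intro a _ ha
    rw [map_neg]; exact AddSubgroup.neg_mem _ ha

variable {X : Scheme.{u}} {n : ℕ} {k : Type u} [Field k]


theorem hasDBases_tw (d : ℤ) : Modules.DualBasis.HasDBases (tw n k d) :=
  Modules.DualBasis.hasDBases_of_isFinLocFree (TensorMod.LocFree.of_rank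
    (TensorMod.LocFree.of_isInvertible (isInvertible_tw d)))

/-- Spanning below gives spanning upstairs. -/
theorem mem_prods_of_push {X Y : Scheme.{u}} (φ : X ⟶ Y) (E : Y.Modules)
    (hE : Modules.DualBasis.HasDBases E) (F : X.Modules)
    (h : ∀ w : Γ(CohB1.tensorMod ((pf φ).obj F) E, ⊤), w ∈ Surj.prods ((pf φ).obj F) E)
    {L : X.Modules} (e : (pb φ).obj E ≅ L) (z : Γ(CohB1.tensorMod F L, ⊤)) :
    z ∈ Surj.prods F L := by
  haveI := Modules.ProjFormula.isIso_theta φ hE F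
  let θ := Modules.ProjFormula.theta φ E F
  let a : Γ(CohB1.tensorMod ((pb φ).obj E) F, ⊤) →+ Γ(CohB1.tensorMod F L, ⊤) :=
    AddMonoidHom.mk' (fun w => (tmap (𝟙 F) e.hom).app ⊤ ((comm ((pb φ).obj E) F).hom.app ⊤ w))
      fun x y => by rw [map_add, map_add]
  let b : Γ(CohB1.tensorMod ((pf φ).obj F) E, ⊤) →+
      Γ((pf φ).obj (CohB1.tensorMod ((pb φ).obj E) F), ⊤) :=
    AddMonoidHom.mk' (fun w => θ.app ⊤ ((comm ((pf φ).obj F) E).hom.app ⊤ w))
      fun x y => by rw [map_add, map_add]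
  let a' : Γ((pf φ).obj (CohB1.tensorMod ((pb φ).obj E) F), ⊤) →+ Γ(CohB1.tensorMod F L, ⊤) := a
  have ha : Function.Surjective a' := fun y =>
    ⟨(comm ((pb φ).obj E) F).inv.app ⊤ ((tmap (𝟙 F) e.inv).app ⊤ y),
      congrArg (fun ψ => Scheme.Modules.Hom.app ψ ⊤ y)
        ((comm ((pb φ).obj E) F) ≪≫ tensorIso (Iso.refl F) e).inv_hom_id⟩
  have hb : Function.Surjective b := fun y =>
    ⟨(comm ((pf φ).obj F) E).inv.app ⊤ ((inv θ).app ⊤ y),
      congrArg (fun ψ => Scheme.Modules.Hom.app ψ ⊤ y)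
        ((comm ((pf φ).obj F) E) ≪≫ asIso θ).inv_hom_id⟩
  obtain ⟨y, rfl⟩ := ha z
  obtain ⟨w, rfl⟩ := hb y
  have hle : Surj.prods ((pf φ).obj F) E ≤ (Surj.prods F L).comap (a'.comp b) := by
    refine (AddSubgroup.closure_le _).2 ?_
    rintro _ ⟨⟨g, t⟩, rfl⟩
    change (tmap (𝟙 F) e.hom).app ⊤ ((comm ((pb φ).obj E) F).hom.app ⊤
      (θ.app ⊤ ((comm ((pf φ).obj F) E).hom.app ⊤ (tens g t)))) ∈ Surj.prods F L
    have h1 : θ.app ⊤ ((comm ((pf φ).obj F) E).hom.app ⊤ (tens g t)) =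
        tens (U := (⊤ : X.Opens)) (unitSec φ E t) (show Γ(F, ⊤) from g) := by
      rw [comm_tens]
      exact Modules.ProjFormula.theta_tens φ F t g
    have h2 : ∀ (x : Γ((pb φ).obj E, ⊤)) (y : Γ(F, ⊤)),
        (tmap (𝟙 F) e.hom).app ⊤ ((comm ((pb φ).obj E) F).hom.app ⊤ (tens x y)) =
          tens y (e.hom.app ⊤ x) := fun x y => by
      rw [comm_tens, tmap_tens]; rfl
    rw [h1]
    exact (congrArg (· ∈ Surj.prods F L) (h2 (unitSec φ E t) g)).mpr (Surj.tens_mem_prods _ _)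
  exact hle (h w)

/-- Sections of `F ⊗ L^a ⊗ L^b` are sums of products for large `a`. -/
theorem exists_mem_prods [X.Over (Spec (CommRingCat.of k))] [IsProper (X ↘ Spec (CommRingCat.of k))]
    {L : X.Modules} (hL : PicF.IsInvertible L) (hgg : Curv2.IsGloballyGenerated L)
    {F : X.Modules} (hF : Coh.IsCoh F) :
    ∃ m₀ : ℕ, ∀ a b : ℕ, m₀ ≤ a → ∀ z : Γ(CohB1.tensorMod
        (CohB1.tensorMod F (CohB1.tensorPow L a)) (CohB1.tensorPow L b), ⊤),
      z ∈ Surj.prods (CohB1.tensorMod F (CohB1.tensorPow L a)) (CohB1.tensorPow L b) := by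
  haveI := Curves.GlobalSections.isNoetherian_of_proper k X
  obtain ⟨N, t, -, hcov⟩ := Curves.RelSurj.exists_sections k hL hgg
  obtain ⟨r, hr, τ, -⟩ := ProjMor.Poly.exists_map N k (X ↘ Spec (CommRingCat.of k)) L hL t
    (ProjMor.Embed.generatedBy_of_locus t hcov)
  haveI : IsProper r := by
    haveI := ProjSpace.Basic.isProper_toSpec N k
    haveI : IsProper (r ≫ CohB1.ProjSpace.toSpec N k) := by rw [hr]; infer_instance
    exact IsProper.of_comp r (CohB1.ProjSpace.toSpec N k)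
  haveI := ProperFin.Projective.isNoetherian_projSpace (R := k) (n := N)
  have hG : Coh.IsCoh ((Coh.push r).obj F) := Cyc.PP.Push.isCoh_push r hF
  obtain ⟨d₀, hd₀⟩ := ProjCoh.Coherent.exists_forall_subsingleton _ hG
  refine ⟨d₀ + (N + 1), fun a b ha => ?_⟩
  have hreg : Regularity.Reg ((Coh.push r).obj F) (a : ℤ) := by
    refine Regularity.reg_of_le (m := ((d₀ + (N + 1) : ℕ) : ℤ)) (fun q hq => ?_) (by exact_mod_cast ha)
    rcases le_or_gt q (N + 1) with hqn | hqn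
    · obtain ⟨p, rfl⟩ : ∃ p, q = p + 1 := ⟨q - 1, by omega⟩
      exact hd₀ _ (by push_cast; omega) p
    · haveI := (ProjCoh.Coherent.isCoh_tensorMod hG
        (ProjCoh.Coherent.isCoh_tw (n := N) (R := k) (((d₀ + (N + 1) : ℕ) : ℤ) - q))).1
      exact ProjCoh.Twist.subsingleton_HH_of_lt _ (by omega)
  obtain ⟨ea⟩ := UnifReg.OnX.nonempty_pow_iso r ⟨τ.symm⟩ a
  obtain ⟨eb⟩ := UnifReg.OnX.nonempty_pow_iso r ⟨τ.symm⟩ b
  refine mem_prods_of_push r _ (hasDBases_tw (b : ℤ)) _ (fun w => ?_) eb.symm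
  let e₁ : CohB1.tensorMod ((pf r).obj F) (tw N k (a : ℤ)) ≅
      (pf r).obj (CohB1.tensorMod F (CohB1.tensorPow L a)) :=
    comm _ _ ≪≫ ((Modules.ProjFormula.projIso r (hasDBases_tw (a : ℤ))).app F) ≪≫
      (pf r).mapIso (comm _ _ ≪≫ tensorIso (Iso.refl F) ea.symm)
  exact mem_prods_iso e₁ (Iso.refl _) (fun v => Surj.mem_prods hreg b v) w

end Groth.Agent.Lib.GGMult90.Main
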